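import Groth.Prelude.Def_W4c3ghconstell
import Groth.Agent.Lib.Comod.Basic
import Mathlib.LinearAlgebra.Projection
import Mathlib.LinearAlgebra.FiniteDimensional.Basic
import Mathlib.Analysis.Normed.Group.InfiniteSum
import Mathlib.Analysis.Normed.Ring.Lemmas

/-!
# Weight stability of equivariant modules: isotypic bookkeeping
-/

universe u v w w'

open TensorProduct HopfRep W4c3ghconstell

namespace GrothLib.ThetaStab

section Coalg

variable {k : Type u} {A : Type v} [Field k] [AddCommGroup A] [Module k A] [Coalgebra k A]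

local notation "Δ" => (CoalgebraStruct.comul (R := k) (A := A))

theorem exists_proj {D E : Submodule k A} (h : Disjoint D E) :
    ∃ Q : A →ₗ[k] A, (∀ x, Q x ∈ D) ∧ (∀ x ∈ D, Q x = x) ∧ ∀ x ∈ E, Q x = 0 := by
  obtain ⟨C, hC⟩ := (D ⊔ E).exists_isCompl
  have hc : IsCompl D (E ⊔ C) :=
    ⟨h.disjoint_sup_right_of_disjoint_sup_left hC.disjoint,
      codisjoint_iff.2 (by rw [← sup_assoc]; exact hC.sup_eq_top)⟩
  refine ⟨D.subtype ∘ₗ D.projectionOnto (E ⊔ C) hc, fun x => (D.projectionOnto (E ⊔ C) hc x).2,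
    fun x hx => ?_, fun x hx => ?_⟩
  · exact congrArg Subtype.val (Submodule.projectionOnto_apply_left hc ⟨x, hx⟩)
  · exact congrArg Subtype.val
      (Submodule.projectionOnto_apply_eq_zero_iff hc |>.2 (Submodule.mem_sup_left hx))

theorem isSubcoalg_inf {D E : Submodule k A} (hD : IsSubcoalg k A D) (hE : IsSubcoalg k A E) :
    IsSubcoalg k A (D ⊓ E) := by
  obtain ⟨E₁, hE₁⟩ := ((D ⊓ E).comap E.subtype).exists_isCompl
  have hdis : Disjoint D (E₁.map E.subtype) := by
    rw [Submodule.disjoint_def]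
    rintro x hx ⟨y, hy, rfl⟩
    rw [(Submodule.disjoint_def.1 hE₁.disjoint) y ⟨hx, y.2⟩ hy]; rfl
  obtain ⟨Q, hQD, hQid, hQ0⟩ := exists_proj hdis
  obtain ⟨R, hRE, hRid, -⟩ := exists_proj (E := ⊥) (D := E) disjoint_bot_right
  have hQE : ∀ x ∈ E, Q x ∈ D ⊓ E := fun x hx => by
    obtain ⟨a, ha, b, hb, hab⟩ := Submodule.mem_sup.1
      (hE₁.sup_eq_top.symm ▸ Submodule.mem_top : (⟨x, hx⟩ : E) ∈ (D ⊓ E).comap E.subtype ⊔ E₁)
    have : x = (a : A) + b := by simpa using (congrArg Subtype.val hab).symm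
    rw [this, map_add, hQid (a : A) ha.1, hQ0 (b : A) ⟨b, hb, rfl⟩, add_zero]
    exact ha
  intro d hd
  obtain ⟨x, hx⟩ := hD d hd.1
  obtain ⟨y, hy⟩ := hE d hd.2
  have h1 : TensorProduct.map Q Q (Δ d) = Δ d := by
    rw [← hx, ← LinearMap.comp_apply, ← TensorProduct.map_comp,
      show Q ∘ₗ D.subtype = D.subtype from LinearMap.ext fun z => hQid z z.2]
  let q : E →ₗ[k] (D ⊓ E : Submodule k A) :=
    LinearMap.codRestrict (D ⊓ E) (Q ∘ₗ E.subtype) fun z => hQE z z.2
  refine ⟨TensorProduct.map q q y, ?_⟩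
  rw [← h1, ← hy, ← LinearMap.comp_apply, ← LinearMap.comp_apply, ← TensorProduct.map_comp,
    ← TensorProduct.map_comp]
  rfl

theorem range_map_mono {D E : Submodule k A} (h : D ≤ E) :
    LinearMap.range (TensorProduct.map D.subtype D.subtype) ≤
      LinearMap.range (TensorProduct.map E.subtype E.subtype) := by
  rw [← Submodule.subtype_comp_inclusion D E h, TensorProduct.map_comp]
  exact LinearMap.range_comp_le_range _ _

theorem isSubcoalg_bot : IsSubcoalg k A ⊥ := fun d hd => by
  rw [(Submodule.mem_bot k).1 hd, map_zero]; exact zero_mem _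

theorem isSubcoalg_sup {D E : Submodule k A} (hD : IsSubcoalg k A D) (hE : IsSubcoalg k A E) :
    IsSubcoalg k A (D ⊔ E) := by
  intro d hd
  obtain ⟨a, ha, b, hb, rfl⟩ := Submodule.mem_sup.1 hd
  rw [map_add]
  exact add_mem (range_map_mono le_sup_left (hD a ha)) (range_map_mono le_sup_right (hE b hb))

theorem isSubcoalg_finsetSup {ι : Type*} {s : Finset ι} {D : ι → Submodule k A}
    (h : ∀ i, IsSubcoalg k A (D i)) : IsSubcoalg k A (s.sup D) :=
  Finset.sup_induction isSubcoalg_bot (fun _ ha _ hb => isSubcoalg_sup ha hb) fun i _ => h i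

theorem exists_functional {D E : Submodule k A} (h : Disjoint D E) :
    ∃ φ : A →ₗ[k] k, φ ∘ₗ D.subtype = CoalgebraStruct.counit (R := k) ∘ₗ D.subtype ∧
      φ ∘ₗ E.subtype = 0 := by
  obtain ⟨Q, -, hid, h0⟩ := exists_proj h
  refine ⟨CoalgebraStruct.counit (R := k) ∘ₗ Q, LinearMap.ext fun z => ?_, LinearMap.ext fun z => ?_⟩
  · simp [hid z z.2]
  · simp [h0 z z.2]

theorem le_sup_iff {D E F : Submodule k A} (hD : IsSimpleSubcoalg k A D) (hE : IsSubcoalg k A E)
    (hF : IsSubcoalg k A F) (hEF : Disjoint E F) (h : D ≤ E ⊔ F) : D ≤ E ∨ D ≤ F := by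
  rcases hD.2.2 (D ⊓ E) inf_le_left (isSubcoalg_inf hD.2.1 hE) with h0 | h1
  · obtain ⟨φ, hφE, hφF⟩ := exists_functional hEF
    right
    intro d hd
    obtain ⟨e, he, f, hf, rfl⟩ := Submodule.mem_sup.1 (h hd)
    obtain ⟨x, hx⟩ := hE e he
    obtain ⟨y, hy⟩ := hF f hf
    obtain ⟨z, hz⟩ := hD.2.1 _ hd
    have key : ∀ u : A ⊗[k] A, u ∈ LinearMap.range (TensorProduct.map D.subtype D.subtype) →
        TensorProduct.rid k A (φ.lTensor A u) ∈ D := by
      rintro _ ⟨w, rfl⟩
      induction w using TensorProduct.induction_on with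
      | zero => simp
      | tmul a b => simpa using D.smul_mem _ a.2
      | add a b ha hb => rw [map_add, map_add, map_add]; exact add_mem ha hb
    have he' : TensorProduct.rid k A (φ.lTensor A (Δ (e + f))) = e := by
      rw [map_add, map_add, map_add]
      have hf0 : φ.lTensor A (Δ f) = 0 := by
        rw [← hy, LinearMap.lTensor_def, ← LinearMap.comp_apply, ← TensorProduct.map_comp, hφF,
          TensorProduct.map_zero_right, LinearMap.zero_apply]
      have he1 : φ.lTensor A (Δ e) = (CoalgebraStruct.counit (R := k)).lTensor A (Δ e) := by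
        rw [← hx, LinearMap.lTensor_def, LinearMap.lTensor_def, ← LinearMap.comp_apply,
          ← LinearMap.comp_apply, ← TensorProduct.map_comp, ← TensorProduct.map_comp, hφE]
      rw [hf0, he1, Coalgebra.lTensor_counit_comul]
      simp
    have hed : e ∈ D := he' ▸ key _ ⟨z, hz⟩
    have : e = 0 := (Submodule.mem_bot k).1 (h0 ▸ ⟨hed, he⟩)
    rw [this, zero_add]; exact hf
  · exact Or.inl (inf_eq_left.1 h1)

theorem SimpSub.mem_of_le_sup (s : Finset (SimpSub k A)) :
    (∀ D : SimpSub k A, D.1 ≤ s.sup (fun E => E.1) → D ∈ s) ∧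
      ∀ D ∉ s, Disjoint D.1 (s.sup fun E => E.1) := by
  classical
  induction s using Finset.induction with
  | empty => exact ⟨fun D h => absurd (le_bot_iff.1 (by simpa using h)) D.2.1, fun D _ => by simp⟩
  | @insert a s ha ih =>
    have key : ∀ D : SimpSub k A, D.1 ≤ (insert a s).sup (fun E => E.1) → D ∈ insert a s := by
      intro D hD
      rw [Finset.sup_insert] at hD
      rcases le_sup_iff D.2 a.2.2.1 (isSubcoalg_finsetSup fun E : SimpSub k A => E.2.2.1) (ih.2 a ha) hD with h | h
      · rcases a.2.2.2 D.1 h D.2.2.1 with h' | h'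
        · exact absurd h' D.2.1
        · exact Finset.mem_insert.2 (Or.inl (Subtype.ext h'))
      · exact Finset.mem_insert_of_mem (ih.1 D h)
    refine ⟨key, fun D hD => disjoint_iff.2 ?_⟩
    rcases D.2.2.2 _ inf_le_left
      (isSubcoalg_inf D.2.2.1 (isSubcoalg_finsetSup fun E : SimpSub k A => E.2.2.1)) with h | h
    · exact h
    · exact absurd (key D (inf_eq_left.1 h)) hD

end Coalg

section Comod

variable {k : Type u} {A : Type v} [Field k] [AddCommGroup A] [Module k A] [Coalgebra k A]
  {M : Type w'} [AddCommGroup M] [Module k M] [HopfRep.Comod k A M]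

local notation "ρ" => (HopfRep.Comod.coact (k := k) (A := A) (V := M))

theorem isoComp_eq_ker (D : Submodule k A) :
    isoComp M D = LinearMap.ker (D.mkQ.lTensor M ∘ₗ ρ) := by
  rw [LinearMap.ker_comp, isoComp]
  exact congrArg (Submodule.comap _)
    (lTensor_exact M (LinearMap.exact_subtype_mkQ D) D.mkQ_surjective).linearMap_ker_eq.symm

theorem isSubcomod_isoComp {D : Submodule k A} (hD : IsSubcoalg k A D) :
    IsSubcomod (k := k) (A := A) (isoComp M D) := by
  intro v hv
  obtain ⟨y, hy⟩ := hv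
  rw [isoComp_eq_ker]
  refine ((Module.Flat.rTensor_exact A
    (LinearMap.exact_subtype_ker_map (D.mkQ.lTensor M ∘ₗ ρ))) _).1 ?_
  have hco : (ρ).rTensor A (ρ v) =
      (TensorProduct.assoc k M A A).symm ((CoalgebraStruct.comul (R := k) (A := A)).lTensor M (ρ v)) := by
    rw [LinearEquiv.eq_symm_apply]
    exact LinearMap.congr_fun (HopfRep.Comod.coassoc (k := k) (A := A) (V := M)) v
  rw [LinearMap.rTensor_comp, LinearMap.comp_apply, hco, ← hy]
  clear hy hco
  induction y using TensorProduct.induction_on with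
  | zero => simp
  | add a b ha hb => simp only [map_add, ha, hb, add_zero]
  | tmul m d =>
    obtain ⟨z, hz⟩ := hD d d.2
    rw [LinearMap.lTensor_tmul, LinearMap.lTensor_tmul, Submodule.subtype_apply, ← hz]
    clear hz
    induction z using TensorProduct.induction_on with
    | zero => simp
    | add a b ha hb => simp only [map_add, TensorProduct.tmul_add, ha, hb, add_zero]
    | tmul a b =>
      rw [TensorProduct.map_tmul, Submodule.subtype_apply, Submodule.subtype_apply,
        TensorProduct.assoc_symm_tmul, LinearMap.rTensor_tmul, LinearMap.lTensor_tmul,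
        Submodule.mkQ_apply, (Submodule.Quotient.mk_eq_zero D).2 a.2, TensorProduct.tmul_zero,
        TensorProduct.zero_tmul]

/-- the operator of a functional on `A` -/
noncomputable def op (φ : A →ₗ[k] k) : M →ₗ[k] M :=
  (TensorProduct.rid k M).toLinearMap ∘ₗ φ.lTensor M ∘ₗ ρ

theorem op_mem {N : Submodule k M} (hN : IsSubcomod (k := k) (A := A) N) (φ : A →ₗ[k] k) {x : M}
    (hx : x ∈ N) : op φ x ∈ N := by
  obtain ⟨y, hy⟩ := hN x hx
  change TensorProduct.rid k M (φ.lTensor M (ρ x)) ∈ N
  rw [← hy]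
  clear hy
  induction y using TensorProduct.induction_on with
  | zero => simp
  | tmul n a => simpa using N.smul_mem _ n.2
  | add a b ha hb => simp only [map_add]; exact add_mem ha hb

theorem op_of_mem_isoComp {D : Submodule k A} {x : M} (hx : x ∈ isoComp M D) {φ ψ : A →ₗ[k] k}
    (h : φ ∘ₗ D.subtype = ψ ∘ₗ D.subtype) : op φ x = op ψ x := by
  obtain ⟨y, hy⟩ := hx
  change TensorProduct.rid k M (φ.lTensor M (ρ x)) = TensorProduct.rid k M (ψ.lTensor M (ρ x))
  rw [← hy, ← LinearMap.comp_apply, ← LinearMap.lTensor_comp, h, LinearMap.lTensor_comp,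
    LinearMap.comp_apply]

theorem op_counit (x : M) : op (CoalgebraStruct.counit (R := k) (A := A)) x = x := by
  change TensorProduct.rid k M ((CoalgebraStruct.counit (R := k) (A := A)).lTensor M (ρ x)) = x
  rw [show (CoalgebraStruct.counit (R := k) (A := A)).lTensor M (ρ x) = x ⊗ₜ 1 from
    LinearMap.congr_fun (HopfRep.Comod.counit_comp (k := k) (A := A) (V := M)) x]
  simp

/-- a subcomodule is the sum of its isotypic parts -/
theorem le_iSup_inf_isoComp (htop : (⨆ D : SimpSub k A, isoComp M D.1) = ⊤) {N : Submodule k M}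
    (hN : IsSubcomod (k := k) (A := A) N) : N ≤ ⨆ D : SimpSub k A, N ⊓ isoComp M D.1 := by
  classical
  intro x hx
  obtain ⟨f, hf, hfx⟩ := (Submodule.mem_iSup_iff_exists_finsupp _ _).1
    (htop.symm ▸ Submodule.mem_top : x ∈ ⨆ D : SimpSub k A, isoComp M D.1)
  rw [← hfx]
  refine Submodule.sum_mem _ fun D hD => Submodule.mem_iSup_of_mem D ⟨?_, hf D⟩
  obtain ⟨φ, hφD, hφ0⟩ := exists_functional
    ((SimpSub.mem_of_le_sup (f.support.erase D)).2 D (Finset.notMem_erase D _))
  have : op φ x = f D := by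
    rw [← hfx, Finsupp.sum, map_sum, Finset.sum_eq_single D, op_of_mem_isoComp (hf D) hφD, op_counit]
    · intro E hE hED
      have hle : E.1 ≤ (f.support.erase D).sup fun E => E.1 :=
        Finset.le_sup (f := fun E : SimpSub k A => E.1) (Finset.mem_erase.2 ⟨hED, hE⟩)
      have h0 : φ ∘ₗ E.1.subtype = (0 : A →ₗ[k] k) ∘ₗ E.1.subtype :=
        LinearMap.ext fun z => by simpa using LinearMap.congr_fun hφ0 ⟨z, hle z.2⟩
      rw [op_of_mem_isoComp (hf E) h0]
      simp [op]
    · intro h; exact absurd hD h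
  exact this ▸ op_mem hN φ hx

end Comod

section Mod

variable {k : Type u} {A : Type v} [Field k] [CommRing A] [Bialgebra k A]
  {R : Type w} [CommRing R] [Algebra k R] [HopfRep.Comod k A R]
  {M : Type w'} [AddCommGroup M] [Module k M] [Module R M] [IsScalarTower k R M]
  [HopfRep.Comod k A M] [TameAct.IsHopfMod k A R M]

local notation "ρ" => (HopfRep.Comod.coact (k := k) (A := A))

theorem isSubcomod_span {S : Set M}
    (h : ∀ s ∈ S, ρ s ∈ LinearMap.range (((Submodule.span R S).restrictScalars k).subtype.rTensor A)) :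
    IsSubcomod (k := k) (A := A) ((Submodule.span R S).restrictScalars k) := by
  intro m hm
  replace hm : m ∈ Submodule.span R S := hm
  induction hm using Submodule.span_induction with
  | mem x hx => exact h x hx
  | zero => rw [map_zero]; exact zero_mem _
  | add x y _ _ hx hy => rw [map_add]; exact add_mem hx hy
  | smul b x _ hx =>
    obtain ⟨y, hy⟩ := hx
    rw [TameAct.IsHopfMod.coact_smul, ← hy]
    clear hy
    induction ρ b using TensorProduct.induction_on with
    | zero => simp
    | add u v hu hv => rw [map_add, LinearMap.add_apply]; exact add_mem hu hv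
    | tmul r a =>
      induction y using TensorProduct.induction_on with
      | zero => simp
      | add u v hu hv => rw [map_add, map_add]; exact add_mem hu hv
      | tmul n a' =>
        exact ⟨(⟨r • (n : M), (Submodule.span R S).smul_mem r n.2⟩ :
          (Submodule.span R S).restrictScalars k) ⊗ₜ (a * a'), by simp⟩

theorem inf_isoComp_le_genIn {S : Set (SimpSub k A)} {D : SimpSub k A} (hD : D ∈ S)
    (N : Submodule R M) :
    N.restrictScalars k ⊓ isoComp M D.1 ≤ (genIn k A R M S N).restrictScalars k :=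
  fun _ hx => Submodule.subset_span (Set.mem_biUnion hD hx)

theorem genIn_le (S : Set (SimpSub k A)) (N : Submodule R M) : genIn k A R M S N ≤ N :=
  Submodule.span_le.2 (Set.iUnion₂_subset fun _ _ => fun _ hx => hx.1)

theorem isSubcomod_genIn (S : Set (SimpSub k A)) {N : Submodule R M}
    (hN : IsSubcomod (k := k) (A := A) (N.restrictScalars k)) :
    IsSubcomod (k := k) (A := A) ((genIn k A R M S N).restrictScalars k) := by
  refine isSubcomod_span fun s hs => ?_
  simp only [Set.mem_iUnion, SetLike.mem_coe] at hs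
  obtain ⟨D, hD, hs⟩ := hs
  exact Comodule.range_subtype_rTensor_mono (inf_isoComp_le_genIn hD N)
    (Comodule.isSubcomod_inf hN (isSubcomod_isoComp D.2.2.1) s hs)

theorem genIn_genIn (S : Set (SimpSub k A)) (N : Submodule R M) :
    genIn k A R M S (genIn k A R M S N) = genIn k A R M S N :=
  le_antisymm (genIn_le S _) (Submodule.span_le.2 (Set.iUnion₂_subset fun D hD x hx =>
    Submodule.subset_span (Set.mem_biUnion hD ⟨inf_isoComp_le_genIn hD N hx, hx.2⟩)))

end Mod

section Weight

variable {k : Type u} {A : Type v} [Field k] [CommRing A] [Bialgebra k A]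
  {R : Type w} [CommRing R] [Algebra k R] [HopfRep.Comod k A R]
  {M : Type w'} [AddCommGroup M] [Module k M] [Module R M] [IsScalarTower k R M]
  [HopfRep.Comod k A M] [TameAct.IsHopfMod k A R M]
  {h : SimpSub k A → ℕ} {θ : SimpSub k A → ℚ}

section
variable (hM : IsConstellation k A R M h)
include hM

theorem hilbAt_top (D : SimpSub k A) : hilbAt M ⊤ D = h D := by
  rw [hilbAt, top_inf_eq]; exact (hM.2.2 D).2

theorem hilbAt_mono {N N' : Submodule k M} (hle : N ≤ N') (D : SimpSub k A) :
    hilbAt M N D ≤ hilbAt M N' D := by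
  haveI := (hM.2.2 D).1
  haveI : Module.Finite k ↥(N' ⊓ isoComp M D.1) :=
    Submodule.finiteDimensional_of_le inf_le_right
  exact Submodule.finrank_mono (inf_le_inf_right _ hle)

theorem hilbAt_le (N : Submodule k M) (D : SimpSub k A) : hilbAt M N D ≤ h D :=
  (hilbAt_mono hM le_top D).trans_eq (hilbAt_top hM D)

theorem isoComp_le_of_hilbAt_eq {N : Submodule k M} {D : SimpSub k A} (he : hilbAt M N D = h D) :
    isoComp M D.1 ≤ N := by
  haveI := (hM.2.2 D).1
  have := Submodule.eq_of_le_of_finrank_eq (inf_le_right : N ⊓ isoComp M D.1 ≤ _)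
    (he.trans (hM.2.2 D).2.symm)
  exact inf_eq_right.1 this

theorem eq_top_of_isoComp_le {N : Submodule R M}
    (hle : ∀ D : SimpSub k A, isoComp M D.1 ≤ N.restrictScalars k) : N = ⊤ := by
  have := iSup_le hle
  rw [hM.2.1] at this
  exact eq_top_iff.2 fun x _ => this trivial

theorem hilbAt_genIn {S : Set (SimpSub k A)} {D : SimpSub k A} (hD : D ∈ S) (N : Submodule R M) :
    hilbAt M ((genIn k A R M S N).restrictScalars k) D = hilbAt M (N.restrictScalars k) D := by
  refine le_antisymm (hilbAt_mono hM (fun x hx => genIn_le S N hx) D) ?_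
  haveI := (hM.2.2 D).1
  haveI : Module.Finite k ↥((genIn k A R M S N).restrictScalars k ⊓ isoComp M D.1) :=
    Submodule.finiteDimensional_of_le inf_le_right
  exact Submodule.finrank_mono (le_inf (inf_isoComp_le_genIn hD N) inf_le_right)

section
variable (hsum : HasSum (fun D => (θ D : ℝ) * (h D : ℝ)) 0)
include hsum

theorem summable_hilbAt (N : Submodule k M) :
    Summable fun D => (θ D : ℝ) * (hilbAt M N D : ℝ) := by
  refine Summable.of_norm_bounded hsum.summable.abs fun D => ?_
  rw [Real.norm_eq_abs, abs_mul, abs_mul, Nat.abs_cast, Nat.abs_cast]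
  exact mul_le_mul_of_nonneg_left (Nat.cast_le.2 (hilbAt_le hM N D)) (abs_nonneg _)

theorem theta_top : theta M θ ⊤ = 0 := by
  simp only [theta, hilbAt_top hM]
  exact hsum.tsum_eq

omit hsum hM in
theorem genIn_bot_terms {N : Submodule R M} (h0 : genIn k A R M {D | θ D < 0} N = ⊥)
    (D : SimpSub k A) : 0 ≤ (θ D : ℝ) * (hilbAt M (N.restrictScalars k) D : ℝ) := by
  by_cases hD : θ D < 0
  · have : hilbAt M (N.restrictScalars k) D = 0 := by
      have hle := inf_isoComp_le_genIn (S := {D | θ D < 0}) hD N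
      rw [h0, Submodule.restrictScalars_bot] at hle
      rw [hilbAt, le_bot_iff.1 hle, finrank_bot]
    simp [this]
  · exact mul_nonneg (by exact_mod_cast le_of_not_gt hD) (Nat.cast_nonneg _)

omit hsum in
/-- termwise comparison of `genIn` with the module it is taken in -/
theorem genIn_term_le (N : Submodule R M) (D : SimpSub k A) :
    (θ D : ℝ) * (hilbAt M ((genIn k A R M {D | θ D < 0} N).restrictScalars k) D : ℝ) ≤
      (θ D : ℝ) * (hilbAt M (N.restrictScalars k) D : ℝ) := by
  by_cases hD : θ D < 0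
  · rw [hilbAt_genIn hM (S := {D | θ D < 0}) hD]
  · exact mul_le_mul_of_nonneg_left
      (Nat.cast_le.2 (hilbAt_mono hM (fun x hx => genIn_le _ N hx) D))
      (by exact_mod_cast le_of_not_gt hD)

theorem theta_genIn_le (N : Submodule R M) :
    theta M θ ((genIn k A R M {D | θ D < 0} N).restrictScalars k) ≤
      theta M θ (N.restrictScalars k) :=
  Summable.tsum_le_tsum (genIn_term_le hM N) (summable_hilbAt hM hsum _) (summable_hilbAt hM hsum _)

theorem theta_genIn_top_le :
    theta M θ ((genIn k A R M {D | θ D < 0} ⊤).restrictScalars k) ≤ 0 := by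
  have := theta_genIn_le hM hsum (⊤ : Submodule R M)
  rwa [Submodule.restrictScalars_top, theta_top hM hsum] at this

theorem genIn_eq_top_of_stable (hne : ∃ D, θ D ≠ 0 ∧ h D ≠ 0)
    (hst : IsThetaStable k A R M θ) : genIn k A R M {D | θ D < 0} ⊤ = ⊤ := by
  by_contra htop
  have hN : IsSubcomod (k := k) (A := A) (((⊤ : Submodule R M)).restrictScalars k) := by
    rw [Submodule.restrictScalars_top]; exact Comodule.isSubcomod_top
  refine absurd (theta_genIn_top_le hM hsum) (not_le.2 (hst.2 _ (isSubcomod_genIn _ hN) ?_ htop))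
  intro hbot
  obtain ⟨D, hθ, hh⟩ := hne
  have hnn : ∀ D, 0 ≤ (θ D : ℝ) * (h D : ℝ) := fun D => by
    have := genIn_bot_terms hbot D
    rwa [Submodule.restrictScalars_top, hilbAt_top hM] at this
  have := congrFun ((hasSum_zero_iff_of_nonneg hnn).1 hsum) D
  simp [hθ, hh] at this

theorem genIn_eq_top_of_semistable (hθ : ∀ D, θ D ≠ 0)
    (hss : IsThetaSemistable k A R M θ) : genIn k A R M {D | θ D < 0} ⊤ = ⊤ := by
  have hN : IsSubcomod (k := k) (A := A) (((⊤ : Submodule R M)).restrictScalars k) := by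
    rw [Submodule.restrictScalars_top]; exact Comodule.isSubcomod_top
  set G := genIn k A R M {D | θ D < 0} ⊤
  have h0 : theta M θ (G.restrictScalars k) = 0 :=
    le_antisymm (theta_genIn_top_le hM hsum) (hss.2 _ (isSubcomod_genIn _ hN))
  have hd : HasSum (fun D => (θ D : ℝ) * (h D : ℝ) -
      (θ D : ℝ) * (hilbAt M (G.restrictScalars k) D : ℝ)) 0 := by
    have := hsum.sub (summable_hilbAt hM hsum (G.restrictScalars k)).hasSum
    rwa [show (∑' D, (θ D : ℝ) * (hilbAt M (G.restrictScalars k) D : ℝ)) = 0 from h0, sub_zero]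
      at this
  have hnn : ∀ D, 0 ≤ (θ D : ℝ) * (h D : ℝ) -
      (θ D : ℝ) * (hilbAt M (G.restrictScalars k) D : ℝ) := fun D => by
    have := genIn_term_le (θ := θ) hM (⊤ : Submodule R M) D
    rw [Submodule.restrictScalars_top, hilbAt_top hM] at this
    exact sub_nonneg.2 this
  refine eq_top_of_isoComp_le hM fun D => isoComp_le_of_hilbAt_eq hM ?_
  have := congrFun ((hasSum_zero_iff_of_nonneg hnn).1 hd) D
  rw [Pi.zero_apply, ← mul_sub, mul_eq_zero, sub_eq_zero] at this
  rcases this with h' | h'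
  · exact absurd (by exact_mod_cast h') (hθ D)
  · exact_mod_cast h'.symm

theorem semistable_of_forall (h0 : theta M θ ⊤ = 0)
    (hss : ∀ N : Submodule R M, IsSubcomod (k := k) (A := A) (N.restrictScalars k) → N ≠ ⊥ → N ≠ ⊤ →
      genIn k A R M {D | θ D < 0} N = N → 0 ≤ theta M θ (N.restrictScalars k)) :
    IsThetaSemistable k A R M θ := by
  refine ⟨h0, fun N hN => ?_⟩
  by_cases hb : genIn k A R M {D | θ D < 0} N = ⊥
  · exact tsum_nonneg (genIn_bot_terms hb)
  by_cases ht : N = ⊤
  · rw [ht, Submodule.restrictScalars_top, h0]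
  exact le_trans (hss _ (isSubcomod_genIn _ hN) hb
    (fun h => ht (eq_top_iff.2 (h ▸ genIn_le _ N))) (genIn_genIn _ N)) (theta_genIn_le hM hsum N)

theorem stable_of_forall (hθ : ∀ D, h D ≠ 0 → θ D ≠ 0) (h0 : theta M θ ⊤ = 0)
    (hs : ∀ N : Submodule R M, IsSubcomod (k := k) (A := A) (N.restrictScalars k) → N ≠ ⊥ → N ≠ ⊤ →
      genIn k A R M {D | θ D < 0} N = N → 0 < theta M θ (N.restrictScalars k)) :
    IsThetaStable k A R M θ := by
  refine ⟨h0, fun N hN hne ht => ?_⟩
  by_cases hb : genIn k A R M {D | θ D < 0} N = ⊥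
  · obtain ⟨D, hD⟩ : ∃ D : SimpSub k A, N.restrictScalars k ⊓ isoComp M D.1 ≠ ⊥ := by
      by_contra! hall
      have := le_iSup_inf_isoComp hM.2.1 hN
      simp only [hall, iSup_bot, le_bot_iff] at this
      exact hne ((Submodule.restrictScalars_eq_bot_iff k R M).1 this)
    haveI := (hM.2.2 D).1
    haveI : Module.Finite k ↥(N.restrictScalars k ⊓ isoComp M D.1) :=
      Submodule.finiteDimensional_of_le inf_le_right
    have hpos : hilbAt M (N.restrictScalars k) D ≠ 0 := fun h => hD (Submodule.finrank_eq_zero.1 h)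
    refine (summable_hilbAt hM hsum _).tsum_pos (genIn_bot_terms hb) D
      (lt_of_le_of_ne (genIn_bot_terms hb D) (Ne.symm (mul_ne_zero ?_ (Nat.cast_ne_zero.2 hpos))))
    exact_mod_cast hθ D fun h => hpos (Nat.eq_zero_of_le_zero (h ▸ hilbAt_le hM _ D))
  exact lt_of_lt_of_le (hs _ (isSubcomod_genIn _ hN) hb
    (fun h => ht (eq_top_iff.2 (h ▸ genIn_le _ N))) (genIn_genIn _ N)) (theta_genIn_le hM hsum N)

theorem stable_of_genIn_single (D₀ : SimpSub k A) (h1 : h D₀ = 1) (hneg : ∀ D, θ D < 0 ↔ D = D₀)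
    (hθ : ∀ D, h D ≠ 0 → θ D ≠ 0) (hgen : genIn k A R M {D₀} ⊤ = ⊤) :
    IsThetaStable k A R M θ := by
  refine stable_of_forall hM hsum hθ (theta_top hM hsum) fun N _ hb ht hg => absurd ?_ ht
  have hs : {D | θ D < 0} = {D₀} := Set.ext fun D => hneg D
  rw [hs] at hg
  haveI := (hM.2.2 D₀).1
  rcases Nat.le_one_iff_eq_zero_or_eq_one.1 (h1 ▸ hilbAt_le hM (N.restrictScalars k) D₀) with h' | h'
  · haveI : Module.Finite k ↥(N.restrictScalars k ⊓ isoComp M D₀.1) :=
      Submodule.finiteDimensional_of_le inf_le_right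
    refine absurd ?_ hb
    rw [← hg, eq_bot_iff]
    refine Submodule.span_le.2 (Set.iUnion₂_subset fun D hD x hx => ?_)
    cases hD
    rw [SetLike.mem_coe, Submodule.finrank_eq_zero.1 h'] at hx
    simpa using hx
  · rw [eq_top_iff, ← hgen]
    refine Submodule.span_le.2 (Set.iUnion₂_subset fun D hD x hx => ?_)
    cases hD
    exact isoComp_le_of_hilbAt_eq hM (h'.trans h1.symm) hx.2

end
end
end Weight

end GrothLib.ThetaStab
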